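import Mathlib.Algebra.Homology.HomotopyCategory.Pretriangulated
import Mathlib.Algebra.Homology.DerivedCategory.Basic
import Mathlib.Algebra.Homology.HomologicalComplexLimits
import Mathlib.CategoryTheory.Limits.Preserves.Shapes.Products

/-!
# Cones of identities; nullhomotopies out of coproducts
-/

universe w v u

open CategoryTheory CategoryTheory.Limits CochainComplex CochainComplex.HomComplex

namespace Groth.Agent.CohDerLib.FilRep

variable {A : Type u} [Category.{v} A] [Abelian A]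

/-- the cone of the identity -/
noncomputable abbrev cn (X : CochainComplex A ℤ) : CochainComplex A ℤ := mappingCone (𝟙 X)

/-- the functoriality of the cone of the identity -/
noncomputable def cnMap {X Y : CochainComplex A ℤ} (a : X ⟶ Y) : cn X ⟶ cn Y :=
  mappingCone.map (𝟙 X) (𝟙 Y) a a (by simp)

variable {X Y Z : CochainComplex A ℤ}

@[reassoc (attr := simp)]
lemma inr_cnMap (a : X ⟶ Y) : mappingCone.inr (𝟙 X) ≫ cnMap a = a ≫ mappingCone.inr (𝟙 Y) := by
  simp [cnMap, mappingCone.map]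

@[reassoc]
lemma cnMap_comp (a : X ⟶ Y) (b : Y ⟶ Z) : cnMap a ≫ cnMap b = cnMap (a ≫ b) := by
  ext n
  simp [cnMap, mappingCone.map, mappingCone.ext_from_iff _ (n + 1) n rfl]

lemma cnMap_id (X : CochainComplex A ℤ) : cnMap (𝟙 X) = 𝟙 (cn X) :=
  mappingCone.map_id _

lemma cnMap_comp_desc (a : X ⟶ Y) {K : CochainComplex A ℤ} (α : Cochain Y K (-1)) (β : Y ⟶ K)
    (eq : δ (-1) 0 α = Cochain.ofHom (𝟙 Y ≫ β)) (α' : Cochain X K (-1)) (β' : X ⟶ K)
    (eq' : δ (-1) 0 α' = Cochain.ofHom (𝟙 X ≫ β'))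
    (hα : (Cochain.ofHom a).comp α (zero_add _) = α') (hβ : a ≫ β = β') :
    cnMap a ≫ mappingCone.desc _ α β eq = mappingCone.desc _ α' β' eq' := by
  subst hα hβ
  ext n
  simp [cnMap, mappingCone.map, mappingCone.ext_from_iff _ (n + 1) n rfl]

instance mono_inr (X : CochainComplex A ℤ) : Mono (mappingCone.inr (𝟙 X)) :=
  HomologicalComplex.mono_of_mono_f _ fun n =>
    (SplitMono.mk ((mappingCone.snd (𝟙 X)).v n n (add_zero n)) (by simp)).mono

lemma Q_map_id_cn [HasDerivedCategory.{w} A] (X : CochainComplex A ℤ) :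
    DerivedCategory.Q.map (𝟙 (cn X)) = 0 := by
  rw [← DerivedCategory.Q.map_zero]
  refine DerivedCategory.Q_map_eq_of_homotopy _
    (mappingCone.descHomotopy _ _ _ 0 (mappingCone.inl _) ?_ ?_)
  · simp
  · simp

lemma exists_sigma_nullhomotopy {ι : Type} [HasCoproductsOfShape ι A] (X : ι → CochainComplex A ℤ)
    {I : CochainComplex A ℤ} (f : ∀ j, X j ⟶ I) (H : ∀ j, Cochain (X j) I (-1))
    (hH : ∀ j, δ (-1) 0 (H j) = Cochain.ofHom (f j)) :
    ∃ h : Cochain (∐ X) I (-1), δ (-1) 0 h = Cochain.ofHom (Sigma.desc f) ∧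
      ∀ j, (Cochain.ofHom (Sigma.ι X j)).comp h (zero_add _) = H j := by
  let hc := fun p => isColimitOfPreserves (HomologicalComplex.eval A (ComplexShape.up ℤ) p)
    (coproductIsCoproduct X)
  let h : Cochain (∐ X) I (-1) := Cochain.mk fun p q hpq => (hc p).desc
    (Cocone.mk (I.X q) (Discrete.natTrans fun j => (H j.as).v p q hpq))
  have hh : ∀ j, (Cochain.ofHom (Sigma.ι X j)).comp h (zero_add _) = H j := fun j => by
    ext p q hpq
    rw [Cochain.zero_cochain_comp_v, Cochain.ofHom_v]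
    exact (hc p).fac _ ⟨j⟩
  refine ⟨h, ?_, hh⟩
  ext p
  refine (hc p).hom_ext fun j => ?_
  have := Cochain.congr_v (show (Cochain.ofHom (Sigma.ι X j.as)).comp (δ (-1) 0 h) (zero_add _) =
    Cochain.ofHom (Sigma.ι X j.as ≫ Sigma.desc f) by rw [← δ_ofHom_comp, hh, hH, Sigma.ι_desc])
    p p (add_zero p)
  rw [Cochain.zero_cochain_comp_v, Cochain.ofHom_v, Cochain.ofHom_v, HomologicalComplex.comp_f] at this
  rw [Cochain.ofHom_v]
  exact this

end Groth.Agent.CohDerLib.FilRep
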