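import Groth.Prelude.Def_SpSeq
import Groth.Agent.CohDerLib.FilRep.Cone
import Groth.Agent.DHA.KInjectiveResolution
import Mathlib.Algebra.Homology.GrothendieckAbelian
import Mathlib.Algebra.Homology.DerivedCategory.KInjective
import Mathlib.Data.Int.Init

/-!
# A filtered complex representing an inverse system in the derived category
-/

universe w v u

open CategoryTheory CategoryTheory.Limits CochainComplex CochainComplex.HomComplex

namespace Groth.Agent.CohDerLib.FilRep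

variable {A : Type u} [Category.{v} A] [Abelian A] [IsGrothendieckAbelian.{v} A]

section

variable {I : CochainComplex A ℤ} (J : ℤ → CochainComplex A ℤ) (T : ∀ i, J (i + 1) ⟶ J i)
  (α : ∀ i, J i ⟶ I)

/-- the indices above `i` -/
abbrev Ge (i : ℤ) := { k : ℤ // i ≤ k }

/-- the sum of the `J (k + 1)`, `i ≤ k` -/
noncomputable abbrev U (i : ℤ) : CochainComplex A ℤ := ∐ fun k : Ge i => J (k.1 + 1)

/-- `J i` plus a contractible complex -/
noncomputable abbrev V (i : ℤ) : CochainComplex A ℤ := J i ⊞ cn (U J i)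

/-- everything -/
noncomputable abbrev G : CochainComplex A ℤ := ∐ J

noncomputable def φ (i : ℤ) : U J i ⟶ G J :=
  Sigma.desc fun k => Sigma.ι J (k.1 + 1) - T k.1 ≫ Sigma.ι J k.1

noncomputable def incl (i : ℤ) : U J (i + 1) ⟶ U J i :=
  Sigma.desc fun k => Sigma.ι (fun k : Ge i => J (k.1 + 1)) ⟨k.1, by have := k.2; omega⟩

lemma incl_φ (i : ℤ) : incl J i ≫ φ J T i = φ J T (i + 1) := by
  refine Sigma.hom_ext _ _ fun k => ?_
  simp [incl, φ]

noncomputable def ψ (i : ℤ) : V J i ⟶ cn (G J) :=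
  biprod.desc (Sigma.ι J i ≫ mappingCone.inr (𝟙 (G J))) (cnMap (φ J T i))

noncomputable def τ (i : ℤ) : V J (i + 1) ⟶ V J i :=
  biprod.desc (biprod.lift (T i) (Sigma.ι (fun k : Ge i => J (k.1 + 1)) ⟨i, le_rfl⟩ ≫
    mappingCone.inr (𝟙 (U J i)))) (cnMap (incl J i) ≫ biprod.inr)

lemma τ_fst (i : ℤ) : biprod.inl ≫ τ J T i ≫ biprod.fst = T i := by
  simp [τ]

lemma τ_ψ (i : ℤ) : τ J T i ≫ ψ J T i = ψ J T (i + 1) := by
  apply biprod.hom_ext'
  · have : Sigma.ι (fun k : Ge i => J (k.1 + 1)) ⟨i, le_rfl⟩ ≫ φ J T i =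
        Sigma.ι J (i + 1) - T i ≫ Sigma.ι J i := by simp [φ]
    simp [τ, ψ, biprod.lift_desc, reassoc_of% this, Preadditive.sub_comp]
  · simp [τ, ψ, cnMap_comp, incl_φ]

/-- the left inverse on summands -/
noncomputable def L (i : ℤ) (k : ℤ) : J k ⟶ J i ⊞ U J i :=
  Int.inductionOn' (motive := fun k => (J k ⟶ J i ⊞ U J i)) k i biprod.inl
    (fun k hk Lk => Sigma.ι (fun k : Ge i => J (k.1 + 1)) ⟨k, hk⟩ ≫ biprod.inr + T k ≫ Lk)
    (fun _ _ _ => 0)

lemma L_self (i : ℤ) : L J T i i = biprod.inl := Int.inductionOn'_self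

lemma L_succ (i : ℤ) (k : Ge i) :
    L J T i (k.1 + 1) = Sigma.ι (fun k : Ge i => J (k.1 + 1)) k ≫ biprod.inr + T k.1 ≫ L J T i k.1 :=
  Int.inductionOn'_add_one k.2

lemma mono_ψ (i : ℤ) : Mono (ψ J T i) := by
  let M : V J i ⟶ cn (J i ⊞ U J i) :=
    biprod.desc (biprod.inl ≫ mappingCone.inr (𝟙 _)) (cnMap biprod.inr)
  have hM : ψ J T i ≫ cnMap (Sigma.desc (L J T i)) = M := by
    have hφ : φ J T i ≫ Sigma.desc (L J T i) = biprod.inr := by
      refine Sigma.hom_ext _ _ fun k => ?_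
      simp [φ, L_succ]
    apply biprod.hom_ext'
    · simp [ψ, M, L_self]
    · simp [ψ, M, cnMap_comp, hφ]
  have : Mono M := Preadditive.mono_of_cancel_zero _ fun {W} x hx => by
    have h₂ : x ≫ biprod.snd = 0 := by
      have := congrArg (· ≫ cnMap (biprod.snd : J i ⊞ U J i ⟶ _)) hx
      simp only [Category.assoc, zero_comp] at this
      rw [show M ≫ cnMap biprod.snd = biprod.snd from by
        apply biprod.hom_ext' <;> simp [M, cnMap_comp, cnMap_id]] at this
      exact this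
    have h₁ : x ≫ biprod.fst = 0 := by
      have h := hx
      rw [show x = (x ≫ biprod.fst) ≫ biprod.inl from
        biprod.hom_ext _ _ (by simp) (by simp [h₂])] at h
      rw [← cancel_mono ((biprod.inl : J i ⟶ J i ⊞ U J i) ≫ mappingCone.inr (𝟙 _)), zero_comp]
      simpa [M] using h
    exact biprod.hom_ext _ _ (by simpa using h₁) (by simpa using h₂)
  exact mono_of_mono_fac hM

variable (H : ∀ i, Cochain (J (i + 1)) I (-1))
  (hH : ∀ i, δ (-1) 0 (H i) = Cochain.ofHom (α (i + 1) - T i ≫ α i))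

include hH in
lemma exists_γ : ∃ γ : ∀ i, V J i ⟶ I,
    (∀ i, biprod.inl ≫ γ i = α i) ∧ ∀ i, τ J T i ≫ γ i = γ (i + 1) := by
  choose h hh hι using fun i => exists_sigma_nullhomotopy (fun k : Ge i => J (k.1 + 1))
    (fun k => α (k.1 + 1) - T k.1 ≫ α k.1) (fun k => H k.1) (fun k => hH k.1)
  let β : ∀ i, U J i ⟶ I := fun i => Sigma.desc fun k => α (k.1 + 1) - T k.1 ≫ α k.1
  have heq : ∀ i, δ (-1) 0 (h i) = Cochain.ofHom (𝟙 _ ≫ β i) := fun i => by
    rw [Category.id_comp]; exact hh i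
  refine ⟨fun i => biprod.desc (α i) (mappingCone.desc _ (h i) (β i) (heq i)),
    fun i => biprod.inl_desc _ _, fun i => ?_⟩
  apply biprod.hom_ext'
  · simp [τ, β, biprod.lift_desc]
  · have hincl : (Cochain.ofHom (incl J i)).comp (h i) (zero_add _) = h (i + 1) := by
      ext p q hpq
      refine (isColimitOfPreserves (HomologicalComplex.eval A (ComplexShape.up ℤ) p)
        (coproductIsCoproduct _)).hom_ext fun k => ?_
      have h1 := Cochain.congr_v (hι i ⟨k.as.1, by have := k.as.2; omega⟩) p q hpq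
      have h2 := Cochain.congr_v (hι (i + 1) k.as) p q hpq
      rw [Cochain.zero_cochain_comp_v, Cochain.ofHom_v] at h1 h2 ⊢
      refine Eq.trans ?_ (h1.trans h2.symm)
      exact (Category.assoc _ _ _).symm.trans (congrArg (· ≫ (h i).v p q hpq)
        ((HomologicalComplex.comp_f _ _ _).symm.trans
          (HomologicalComplex.congr_hom (Sigma.ι_desc _ _) p)))
    simp only [τ, biprod.inr_desc_assoc, biprod.inr_desc, Category.assoc]
    exact cnMap_comp_desc _ _ _ _ _ _ _ hincl (Sigma.hom_ext _ _ fun k => by simp [β, incl])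

variable [HasDerivedCategory.{w} A]

open DerivedCategory in
include hH in
theorem exists_filCx : ∃ (K : SpSeq.FilCx A) (e : Q.obj K.obj ≅ Q.obj I)
    (ei : ∀ i : ℤ, Q.obj (K.step i) ≅ Q.obj (J i)),
    (∀ i : ℤ, Q.map (K.fil i).arrow ≫ e.hom = (ei i).hom ≫ Q.map (α i)) ∧
    (∀ i : ℤ, Q.map (K.stepLE (le_of_lt (Int.lt_succ_self i))) ≫ (ei i).hom =
      (ei (i + 1)).hom ≫ Q.map (T i)) := by
  obtain ⟨γ, hγα, hγτ⟩ := exists_γ J T α H hH
  let Φ : ∀ i, V J i ⟶ I ⊞ cn (G J) := fun i => biprod.lift (γ i) (ψ J T i)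
  have hτΦ : ∀ i, τ J T i ≫ Φ i = Φ (i + 1) := fun i => by
    apply biprod.hom_ext <;> simp [Φ, hγτ, τ_ψ]
  have hmono : ∀ i, Mono (Φ i) := fun i => by
    have := mono_ψ J T i
    have : Mono (Φ i ≫ biprod.snd) := by simp only [Φ, biprod.lift_snd]; infer_instance
    exact mono_of_mono (Φ i) biprod.snd
  let K : SpSeq.FilCx A :=
    { obj := I ⊞ cn (G J)
      fil := fun i => Subobject.mk (Φ i)
      anti := antitone_int_of_succ_le fun i => Subobject.mk_le_mk_of_comm (τ J T i) (hτΦ i) }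
  -- the projections become isomorphisms in the derived category
  have key : ∀ (X Y : CochainComplex A ℤ),
      Q.map (biprod.fst : X ⊞ cn Y ⟶ X) ≫ Q.map biprod.inl = 𝟙 _ := fun X Y => by
    have : Q.map ((biprod.snd : X ⊞ cn Y ⟶ _) ≫ (biprod.inr : cn Y ⟶ X ⊞ cn Y)) = 0 := by
      rw [Q.map_comp, ← Category.id_comp (Q.map biprod.inr), ← Q.map_id, Q_map_id_cn, zero_comp,
        comp_zero]
    have tot := congrArg Q.map (biprod.total (X := X) (Y := cn Y))
    rw [Functor.map_add, this, add_zero, Q.map_comp, Q.map_id] at tot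
    exact tot
  let p : ∀ (X Y : CochainComplex A ℤ), Q.obj (X ⊞ cn Y) ≅ Q.obj X := fun X Y =>
    { hom := Q.map biprod.fst
      inv := Q.map biprod.inl
      hom_inv_id := key X Y
      inv_hom_id := by rw [← Q.map_comp, biprod.inl_fst, Q.map_id] }
  let u : ∀ i, K.step i ≅ V J i := fun i => Subobject.underlyingIso (Φ i)
  refine ⟨K, p _ _, fun i => Q.mapIso (u i) ≪≫ p _ _, fun i => ?_, fun i => ?_⟩
  · have e1 : (K.fil i).arrow = (u i).hom ≫ Φ i :=
      (Subobject.underlyingIso_hom_comp_eq_mk (Φ i)).symm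
    have e2 : Q.map (γ i) = Q.map (biprod.fst : V J i ⟶ _) ≫ Q.map (α i) := by
      rw [← hγα i, Q.map_comp, reassoc_of% (key (J i) (U J i))]
    simp only [p, e1, Iso.trans_hom, Functor.mapIso_hom, Category.assoc, ← e2, ← Q.map_comp]
    simp [Φ, K, e2]
  · have e1 : ∀ i, (K.fil i).arrow = (u i).hom ≫ Φ i := fun i =>
      (Subobject.underlyingIso_hom_comp_eq_mk (Φ i)).symm
    change Q.map (K.stepLE (show i ≤ i + 1 by omega)) ≫ _ = _
    have e3 : K.stepLE (show i ≤ i + 1 by omega) ≫ (u i).hom = (u (i + 1)).hom ≫ τ J T i := by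
      have := hmono i
      rw [← cancel_mono (Φ i), Category.assoc, Category.assoc, ← e1 i, hτΦ, ← e1 (i + 1)]
      exact Subobject.ofLE_arrow _
    have e2 : Q.map (τ J T i ≫ biprod.fst) = Q.map (biprod.fst : V J (i + 1) ⟶ _) ≫ Q.map (T i) := by
      rw [← τ_fst J T i, Q.map_comp biprod.inl, reassoc_of% (key (J (i + 1)) (U J (i + 1)))]
    simp only [p, Iso.trans_hom, Functor.mapIso_hom, Category.assoc]
    rw [← Q.map_comp_assoc, e3, Q.map_comp, Category.assoc, ← Q.map_comp (τ J T i), e2]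

end

open DerivedCategory

lemma exists_rep [HasDerivedCategory.{w} A] (X : DerivedCategory A) :
    ∃ (J : CochainComplex A ℤ) (_ : J.IsKInjective), Nonempty (Q.obj J ≅ X) :=
  ⟨(DHA.KInj.resolution A).obj (Q.objPreimage X), inferInstance,
    ⟨(asIso (Q.map ((DHA.KInj.resolutionι A).app (Q.objPreimage X)))).symm ≪≫
      Q.objObjPreimageIso X⟩⟩

lemma exists_lift_hom [HasDerivedCategory.{w} A] {X Y : CochainComplex A ℤ} [Y.IsKInjective]
    (f : Q.obj X ⟶ Q.obj Y) : ∃ g : X ⟶ Y, Q.map g = f := by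
  obtain ⟨g, hg⟩ := (CochainComplex.IsKInjective.Qh_map_bijective
    ((HomotopyCategory.quotient _ _).obj X) Y).surjective f
  obtain ⟨g, rfl⟩ := (HomotopyCategory.quotient _ _).map_surjective g
  exact ⟨g, hg⟩

lemma exists_cochain_of_Q_map_eq [HasDerivedCategory.{w} A] {X Y : CochainComplex A ℤ}
    [Y.IsKInjective] {f g : X ⟶ Y} (h : Q.map f = Q.map g) :
    ∃ z : Cochain X Y (-1), δ (-1) 0 z = Cochain.ofHom (f - g) := by
  have h' : (HomotopyCategory.quotient _ _).map f = (HomotopyCategory.quotient _ _).map g :=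
    (CochainComplex.IsKInjective.Qh_map_bijective _ _).injective h
  obtain ⟨z, hz⟩ := Cochain.equivHomotopy _ _ (HomotopyCategory.homotopyOfEq _ _ h')
  exact ⟨z, by rw [Cochain.ofHom_sub, hz]; abel⟩

theorem exists_filtered_representing [HasDerivedCategory.{w} A]
    (E : DerivedCategory A) (Es : ℤ → DerivedCategory A) (t : ∀ i : ℤ, Es (i + 1) ⟶ Es i)
    (a : ∀ i : ℤ, Es i ⟶ E) (hat : ∀ i : ℤ, t i ≫ a i = a (i + 1)) :
    ∃ (K : SpSeq.FilCx A) (e : Q.obj K.obj ≅ E) (ei : ∀ i : ℤ, Q.obj (K.step i) ≅ Es i),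
      (∀ i : ℤ, Q.map (K.fil i).arrow ≫ e.hom = (ei i).hom ≫ a i) ∧
      (∀ i : ℤ, Q.map (K.stepLE (le_of_lt (Int.lt_succ_self i))) ≫ (ei i).hom =
        (ei (i + 1)).hom ≫ t i) := by
  obtain ⟨I, hI, ⟨eI⟩⟩ := exists_rep E
  choose J hJ eJ using fun i => exists_rep (Es i)
  let eJ' := fun i => (eJ i).some
  choose T hT using fun i => exists_lift_hom ((eJ' (i + 1)).hom ≫ t i ≫ (eJ' i).inv)
  choose α hα using fun i => exists_lift_hom ((eJ' i).hom ≫ a i ≫ eI.inv)
  choose H hH using fun i => exists_cochain_of_Q_map_eq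
    (show Q.map (α (i + 1)) = Q.map (T i ≫ α i) by
      simp [hα, hT, reassoc_of% (hat i)])
  obtain ⟨K, e, ei, h1, h2⟩ := exists_filCx J T α H hH
  refine ⟨K, e ≪≫ eI, fun i => ei i ≪≫ eJ' i, fun i => ?_, fun i => ?_⟩
  · simp [reassoc_of% (h1 i), hα]
  · rw [Iso.trans_hom, Iso.trans_hom]
    exact (Category.assoc _ _ _).symm.trans ((congrArg (· ≫ (eJ' i).hom) (h2 i)).trans
      ((Category.assoc _ _ _).trans ((congrArg ((ei (i + 1)).hom ≫ ·)
        (show Q.map (T i) ≫ (eJ' i).hom = (eJ' (i + 1)).hom ≫ t i by simp [hT])).trans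
          (Category.assoc _ _ _).symm)))

end Groth.Agent.CohDerLib.FilRep
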